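import Cfsg.Prelude.Def_ChevB2
import Cfsg.Agent.S1060

/-!
The Chevalley group of type B₂ over the field with two elements permutes six row vectors of the
adjoint module; this gives the isomorphism with the symmetric group of degree six.
-/

set_option maxRecDepth 100000

open Matrix

namespace CfsgLib.B2Six

open Cfsg.Lie

/-- The orbit of length six. -/
def vec : Fin 6 → chevB2.Idx → ZMod 2 :=
  ![Sum.elim ![0, 1] ![0, 0, 0, 1, 1, 0, 0, 0],
    Sum.elim ![0, 1] ![0, 0, 0, 1, 1, 0, 0, 1],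
    Sum.elim ![0, 1] ![1, 0, 0, 1, 1, 0, 0, 0],
    Sum.elim ![0, 1] ![1, 0, 0, 1, 0, 0, 0, 1],
    Sum.elim ![0, 1] ![1, 0, 0, 0, 1, 0, 0, 1],
    Sum.elim ![0, 1] ![1, 0, 0, 0, 0, 0, 0, 1]]

/-- The permutations induced by the root elements with parameter one. -/
def rootPerm : Fin 8 → Fin 6 → Fin 6 :=
  ![![1, 0, 2, 3, 4, 5], ![1, 0, 3, 2, 5, 4], ![1, 0, 4, 5, 2, 3], ![0, 1, 2, 3, 5, 4], ![0, 1, 2, 5, 4, 3], ![2, 3, 0, 1, 5, 4], ![2, 4, 0, 5, 1, 3], ![2, 1, 0, 3, 4, 5]]

/-- The permutation induced by a root element. -/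
def paramPerm (r : Fin 8) (t : ZMod 2) : Fin 6 → Fin 6 := if t = 0 then id else rootPerm r

theorem vec_xMat : ∀ (r : Fin 8) (t : ZMod 2) (i : Fin 6) (c : chevB2.Idx),
    (vec i ᵥ* chevB2.xMat (ZMod 2) r t) c = vec (paramPerm r t i) c := by decide +kernel

theorem xMat_sq : ∀ r : Fin chevB2.nroots,
    chevB2.xMat (ZMod 2) r 1 * chevB2.xMat (ZMod 2) r 1 = 1 := by decide +kernel

theorem vec_injective : ∀ i j : Fin 6, (∀ c, vec i c = vec j c) → i = j := by decide +kernel

theorem paramPerm_involutive : ∀ (r : Fin 8) (t : ZMod 2) (i : Fin 6),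
    paramPerm r t (paramPerm r t i) = i := by decide +kernel

theorem cycle_word : ∀ i : Fin 6, rootPerm 7 (rootPerm 1 (rootPerm 4 i)) = finRotate 6 i := by
  decide +kernel

theorem swap_word : ∀ i : Fin 6, rootPerm 0 i = Equiv.swap (0 : Fin 6) 1 i := by decide +kernel

variable {F : Type*} [Field F]

theorem xMat_map [CharP F 2] (e : ZMod 2 →+* F) (r : Fin chevB2.nroots) (t : ZMod 2) :
    (chevB2.xMat (ZMod 2) r t).map e = chevB2.xMat F r (e t) := by
  have ht : e t ^ 2 = e t := by
    rw [← map_pow]; exact congrArg e (by revert t; decide)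
  ext row col
  cases col with
  | inl i =>
    cases row with
    | inl j => simp [ChevalleyDatum.xMat, apply_ite e]
    | inr u => simp [ChevalleyDatum.xMat, apply_ite e, CharTwo.neg_eq]
  | inr s =>
    cases row with
    | inl j =>
      simp only [ChevalleyDatum.xMat, Matrix.map_apply, Matrix.of_apply]
      split_ifs <;> simp [CharTwo.neg_eq]
    | inr u =>
      simp only [ChevalleyDatum.xMat, Matrix.map_apply, Matrix.of_apply]
      split_ifs <;> simp [map_list_sum, List.map_map, Function.comp_def, CharTwo.neg_eq, ht]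

theorem main [Fintype F] (hF : Fintype.card F = 2) :
    Nonempty (↥(chevB2.group F) ≃* Equiv.Perm (Fin 6)) := by
  classical
  haveI : CharP F 2 := charP_of_card_eq_prime hF
  let e : ZMod 2 →+* F := ZMod.castHom (dvd_refl 2) F
  have he : Function.Bijective e := by
    rw [Fintype.bijective_iff_injective_and_card, hF, ZMod.card]
    exact ⟨RingHom.injective e, rfl⟩
  let w : Fin 6 → chevB2.Idx → F := fun i c => e (vec i c)
  have hw : Function.Injective w := fun i j h => vec_injective i j fun c => he.1 (congrFun h c)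
  have hx : ∀ (r : Fin chevB2.nroots) (t : ZMod 2) (i : Fin 6),
      w i ᵥ* chevB2.xMat F r (e t) = w (paramPerm r t i) := by
    intro r t i
    funext c
    rw [← xMat_map e r t]
    exact (RingHom.map_vecMul e _ _ c).symm.trans (congrArg e (vec_xMat r t i c))
  have hex : ∀ g ∈ chevB2.group F, ∃ σ : Equiv.Perm (Fin 6),
      ∀ i, w i ᵥ* (g : Matrix chevB2.Idx chevB2.Idx F) = w (σ i) := by
    intro g hg
    induction hg using Subgroup.closure_induction with
    | mem g hg =>
      obtain ⟨r, t, hgr⟩ := hg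
      obtain ⟨t, rfl⟩ := he.2 t
      refine ⟨⟨paramPerm r t, paramPerm r t, paramPerm_involutive r t, paramPerm_involutive r t⟩,
        fun i => ?_⟩
      rw [hgr]
      exact hx r t i
    | one => exact ⟨1, fun i => by simp⟩
    | mul a b _ _ ha hb =>
      obtain ⟨σ, hσ⟩ := ha
      obtain ⟨τ, hτ⟩ := hb
      refine ⟨τ * σ, fun i => ?_⟩
      rw [Units.val_mul, ← Matrix.vecMul_vecMul, hσ, hτ]
      rfl
    | inv a _ ha =>
      obtain ⟨σ, hσ⟩ := ha
      refine ⟨σ⁻¹, fun i => ?_⟩
      have h := hσ (σ⁻¹ i)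
      rw [show σ (σ⁻¹ i) = i from σ.apply_symm_apply i] at h
      rw [← h, Matrix.vecMul_vecMul, ← Units.val_mul, mul_inv_cancel, Units.val_one,
        Matrix.vecMul_one]
  choose σ hσ using hex
  let π : ↥(chevB2.group F) →* Equiv.Perm (Fin 6) :=
    { toFun := fun g => σ _ (g⁻¹).2
      map_one' := Equiv.ext fun i => hw (by rw [← hσ]; simp)
      map_mul' := fun g h => Equiv.ext fun i => hw (by
        rw [Equiv.Perm.mul_apply, ← hσ, ← hσ, ← hσ, Matrix.vecMul_vecMul, ← Units.val_mul]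
        simp) }
  have hgen : ∀ r : Fin chevB2.nroots, ∃ g, ∀ i, π g i = rootPerm r i := by
    intro r
    have hsq : chevB2.xMat F r (e 1) * chevB2.xMat F r (e 1) = 1 := by
      rw [← xMat_map e r 1, ← Matrix.map_mul, xMat_sq, Matrix.map_one _ e.map_zero e.map_one]
    let g : GL chevB2.Idx F := ⟨_, _, hsq, hsq⟩
    have hg : g ∈ chevB2.group F := Subgroup.subset_closure ⟨r, e 1, rfl⟩
    refine ⟨⟨g, hg⟩⁻¹, fun i => hw ?_⟩
    show w (σ _ _ i) = _
    rw [← hσ]
    simp only [inv_inv]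
    show w i ᵥ* chevB2.xMat F r (e 1) = _
    rw [hx]
    rfl
  have hsurj : Function.Surjective π := by
    rw [← MonoidHom.range_eq_top, eq_top_iff,
      ← Equiv.Perm.closure_cycle_adjacent_swap (isCycle_finRotate (n := 4)) support_finRotate
        (0 : Fin 6), Subgroup.closure_le]
    rintro s (rfl | rfl)
    · obtain ⟨a, ha⟩ := hgen (7 : Fin 8)
      obtain ⟨b, hb⟩ := hgen (1 : Fin 8)
      obtain ⟨c, hc⟩ := hgen (4 : Fin 8)
      refine ⟨a * b * c, Equiv.ext fun i => ?_⟩
      rw [map_mul, map_mul, Equiv.Perm.mul_apply, Equiv.Perm.mul_apply, hc, hb, ha, cycle_word]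
    · obtain ⟨a, ha⟩ := hgen (0 : Fin 8)
      refine ⟨a, Equiv.ext fun i => ?_⟩
      rw [ha, swap_word]
      rfl
  have hcard : Nat.card ↥(chevB2.group F) = 720 := by
    have h := Cfsg.Agent.S1060.result (F := F) hF
    rw [show Nat.gcd 2 (2 - 1) = 1 from rfl, one_mul] at h
    exact h.trans (by norm_num)
  refine ⟨MulEquiv.ofBijective π ((Nat.bijective_iff_surjective_and_card π).2 ⟨hsurj, ?_⟩)⟩
  rw [hcard, Nat.card_eq_fintype_card, Fintype.card_perm, Fintype.card_fin]
  rfl

end CfsgLib.B2Six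

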